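import Cfsg.Agent.CpAut.Base
import Cfsg.Agent.Transfer.CentralTransfer
import Cfsg.Agent.Prune
set_option linter.all false
prune_inst 0x7f00000000000000000000000000000000000000000000000000000000000000000000000000000000000000000000000000000000000000000000000000000000000000000000000000000000000000003fffffffffffffffffffffffffffbeffbdffffffff
open scoped Cfsg.Agent.FastGrp

/-!
# Components of `C(x) / O_{p'}(C(x))` when `p ^ 3` does not divide the order

* `false_of_abelian_sylow` : a perfect subgroup `K` of `Q` whose Sylow `p`-subgroups are abelian and Sylow in `Q` does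
  not exist if the centre of `Q` has an element of order `p`;
* `not_sq_dvd_comp` : if `p ^ 3` does not divide `|H|` and the centre of `H` has an element of order `p`, then `p ^ 2` does
  not divide the order of a component of `H / O_{p'}(H)`;
* `compsCT_cent` : the corresponding statement on `C_X(g)`; `autCT_of_sq`.
-/

set_option autoImplicit false

namespace Cfsg.Agent.CpAutFiFive.SqRank

open Subgroup Cfsg Cfsg.Agent.CpAut

universe u

/-- An element of order `p` in the centre of `Q` is not in a perfect subgroup with an abelian Sylow subgroup which is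
Sylow in `Q`. -/
theorem false_of_abelian_sylow {Q : Type*} [Group Q] [Finite Q] {p : ℕ} [hp : Fact p.Prime] {g : Q}
    (hg : g ∈ center Q) (hgp : orderOf g = p) (K : Subgroup Q) (hK : commutator ↥K = ⊤) (P : Sylow p ↥K)
    (hP : IsMulCommutative ↥(P : Subgroup ↥K)) (hidx : ¬ p ∣ K.index) : False := by
  -- `P` is Sylow in `Q`
  set P' : Subgroup Q := (P : Subgroup ↥K).map K.subtype with hP'
  have hP'p : IsPGroup p ↥P' := P.isPGroup'.map _
  have hz : (zpowers g).Normal := by
    refine ⟨fun n hn a => ?_⟩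
    obtain ⟨k, rfl⟩ := mem_zpowers_iff.1 hn
    have h1 : g ^ k ∈ center Q := (center Q).zpow_mem hg k
    have h2 := mem_center_iff.1 h1 a
    rw [h2, mul_inv_cancel_right]
    exact hn
  have hzp : IsPGroup p ↥(zpowers g) := IsPGroup.of_card (n := 1) (by rw [Nat.card_zpowers, hgp, pow_one])
  have hsup : IsPGroup p ↥(P' ⊔ zpowers g : Subgroup Q) := IsPGroup.to_sup_of_normal_right hP'p hzp
  have hidx' : ¬ p ∣ P'.index := by
    rw [hP', Subgroup.index_map_subtype]
    intro h
    rcases hp.out.dvd_mul.1 h with h | h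
    · exact P.not_dvd_index h
    · exact hidx h
  have hgP : g ∈ P' := by
    let S : Sylow p Q := hP'p.toSylow hidx'
    have h1 : P' ⊔ zpowers g = P' := by
      have := S.is_maximal' (Q := P' ⊔ zpowers g) hsup (by
        show P' ≤ _
        exact le_sup_left)
      exact this
    rw [← h1]
    exact (le_sup_right : zpowers g ≤ _) (mem_zpowers g)
  obtain ⟨k, hkP, hkg⟩ := hgP
  have hkc : k ∈ center ↥K := by
    rw [mem_center_iff]
    intro a
    apply Subtype.ext
    have := mem_center_iff.1 hg (a : Q)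
    have hk' : (k : Q) = g := hkg
    rw [coe_mul, coe_mul, hk', this]
  let _ : CommGroup ↥(P : Subgroup ↥K) := { (inferInstance : Group ↥(P : Subgroup ↥K)) with
    mul_comm := fun a b => hP.is_comm.comm a b }
  have h2 := Transfer.CentralTransfer.map_pow_index_eq_one_of_perfect hK
    (MonoidHom.id ↥(P : Subgroup ↥K)) ⟨k, hkP⟩ hkc
  have h3 : k ^ (P : Subgroup ↥K).index = 1 := congrArg Subtype.val h2
  have h4 : orderOf k = p := by
    rw [← hgp, ← hkg]
    exact (Subgroup.orderOf_coe k).symm
  have h5 : orderOf k ∣ (P : Subgroup ↥K).index := orderOf_dvd_of_pow_eq_one h3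
  exact P.not_dvd_index (h4 ▸ h5)

variable {H : Type u} [Group H] [Finite H] {p : ℕ}

/-- If the centre of `H` has an element of order `p` and the Sylow `p`-subgroups of `H` have order at most `p ^ 2`, then
the Sylow `p`-subgroups of a component of `H / O_{p'}(H)` have smaller order. -/
theorem not_dvd_comp (hp : p.Prime) {g : H} (hg : g ∈ center H) (hgp : orderOf g = p) {n : ℕ} (hn : n ≤ 2)
    (hH : ¬ p ^ (n + 1) ∣ Nat.card H) (K : Subgroup (H ⧸ pPrimeCore p H)) (hK : IsComponent K) :
    ¬ p ^ n ∣ Nat.card ↥K := by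
  intro hd
  have hpF : Fact p.Prime := ⟨hp⟩
  have hO := Lib.Cores.pPrimeCore_normal (G := H) p
  have hcop := Lib.Cores.pPrimeCore_coprime (G := H) p
  -- the image of `g`
  have hgc : (QuotientGroup.mk' (pPrimeCore p H) g) ∈ center (H ⧸ pPrimeCore p H) := by
    rw [mem_center_iff]
    intro a
    obtain ⟨a, rfl⟩ := QuotientGroup.mk'_surjective _ a
    rw [← map_mul, ← map_mul, mem_center_iff.1 hg a]
  have hgo : orderOf (QuotientGroup.mk' (pPrimeCore p H) g) = p := by
    have hgp1 : g ^ p = 1 := by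
      have := pow_orderOf_eq_one g
      rwa [hgp] at this
    refine orderOf_eq_prime (by rw [← map_pow, hgp1, map_one]) ?_
    intro h
    have h1 : g ∈ pPrimeCore p H := (QuotientGroup.eq_one_iff g).1 h
    have h2 : orderOf g ∣ Nat.card ↥(pPrimeCore p H) := by
      have := orderOf_dvd_natCard (⟨g, h1⟩ : ↥(pPrimeCore p H))
      rwa [Subgroup.orderOf_mk] at this
    rw [hgp] at h2
    have h3 : p ∣ 1 := by
      have := Nat.dvd_gcd h2 (dvd_refl p)
      rwa [Nat.Coprime.gcd_eq_one hcop] at this
    exact hp.one_lt.ne' (Nat.dvd_one.1 h3)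
  have hcard : Nat.card (H ⧸ pPrimeCore p H) ∣ Nat.card H := card_quotient_dvd_card _
  have hidx : ¬ p ∣ K.index := by
    intro h
    apply hH
    refine dvd_trans ?_ hcard
    rw [← K.card_mul_index, pow_succ]
    exact mul_dvd_mul hd h
  obtain ⟨P⟩ : Nonempty (Sylow p ↥K) := inferInstance
  have hPc : Nat.card ↥(P : Subgroup ↥K) ∣ p ^ 2 := by
    obtain ⟨m, hm⟩ := IsPGroup.iff_card.1 P.isPGroup'
    rw [hm]
    apply pow_dvd_pow
    by_contra hcon
    push Not at hcon
    apply hH
    refine dvd_trans (pow_dvd_pow p (show n + 1 ≤ m by omega)) ?_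
    rw [← hm]
    exact ((P : Subgroup ↥K).card_subgroup_dvd_card.trans K.card_subgroup_dvd_card).trans hcard
  have hPab : IsMulCommutative ↥(P : Subgroup ↥K) := by
    obtain ⟨m, hm, hm'⟩ := (Nat.dvd_prime_pow hp).1 hPc
    refine ⟨⟨fun a b => ?_⟩⟩
    have hle : m = 0 ∨ m = 1 ∨ m = 2 := by omega
    rcases hle with rfl | rfl | rfl
    · have h1 : Nat.card ↥(P : Subgroup ↥K) = 1 := by rw [hm', pow_zero]
      have : Subsingleton ↥(P : Subgroup ↥K) := (Nat.card_eq_one_iff_unique.1 h1).1
      exact Subsingleton.elim _ _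
    · have h1 : Nat.card ↥(P : Subgroup ↥K) = p := by rw [hm', pow_one]
      have hc : IsCyclic ↥(P : Subgroup ↥K) := isCyclic_of_prime_card h1
      let _ := hc.commGroup
      exact mul_comm a b
    · exact IsPGroup.commutative_of_card_eq_prime_sq (p := p) hm' a b
  exact false_of_abelian_sylow hgc hgo K hK.2.1.commutator_eq_top P hPab hidx

/-- no `p ^ (k + 1)` in the order: `p`-rank at most `k` -/
theorem prankLE_of_not_dvd {K : Type*} [Group K] [Finite K] (hp : p.Prime) {k : ℕ} (h : ¬ p ^ (k + 1) ∣ Nat.card K) :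
    PRankLE p k K := by
  have hpF : Fact p.Prime := ⟨hp⟩
  intro A _ hA
  have hAp : IsPGroup p ↥A := fun a => ⟨1, Subtype.ext (by rw [pow_one]; exact hA a a.2)⟩
  obtain ⟨m, hm⟩ := IsPGroup.iff_card.1 hAp
  rw [hm]
  apply Nat.pow_le_pow_right hp.pos
  by_contra hcon
  push Not at hcon
  apply h
  refine dvd_trans (pow_dvd_pow p (show k + 1 ≤ m by omega)) ?_
  rw [← hm]
  exact A.card_subgroup_dvd_card

/-- **`C_X(g)`, when `p ^ 3` does not divide `|X|`.** -/
theorem compsCT_cent {X : Type u} [Group X] [Finite X] (hS : AllKnown.{u}) (hp : p.Prime) (hp2 : p ≠ 2)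
    (hX : ¬ p ^ 3 ∣ Nat.card X) (g : X) (hg : orderOf g = p) : CompsCT p ↥(centralizer ({g} : Set X)) := by
  intro K hK
  have hgm : g ∈ centralizer ({g} : Set X) := by
    rw [mem_centralizer_singleton_iff]
  refine inCT_of_rank_one hS hp hp2 K hK (prankLE_of_not_dvd hp ?_)
  refine not_dvd_comp hp (g := ⟨g, hgm⟩) ?_ ?_ le_rfl ?_ K hK
  · rw [mem_center_iff]
    rintro ⟨a, ha⟩
    apply Subtype.ext
    exact mem_centralizer_singleton_iff.1 ha
  · rw [Subgroup.orderOf_mk, hg]
  · intro h
    exact hX (h.trans (centralizer ({g} : Set X)).card_subgroup_dvd_card)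

/-- `T_p`-rows with `p ^ 3` not dividing the order and inner automorphisms of order `p`. -/
theorem autCT_of_cube {X : Type u} [Group X] [Finite X] (hS : AllKnown.{u}) (hp : p.Prime) (hp2 : p ≠ 2)
    (hc : center X = ⊥) (hi : AutInner p X) (hX : ¬ p ^ 3 ∣ Nat.card X) : AutCT p X :=
  autCT_of_inner hc hi fun g hg => compsCT_cent hS hp hp2 hX g hg

end Cfsg.Agent.CpAutFiFive.SqRank
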