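import Cfsg.Agent.CpAutFiFive.SqRank
import Cfsg.Agent.R08.X4Gamma_m3
import Cfsg.Agent.Fischer.Fi22Order
import Cfsg.Agent.Prune
set_option linter.all false
prune_inst 0x7f00000000000000000000000000000000000000000000000000000000000000000000000000000000000000000000000000000000000000000000000000000000000000000000000000000000000000003fffffffffffffffffffffffffffbeffbdffffffff
open scoped Cfsg.Agent.FastGrp

/-!
# The row `TRows.fi22` of S1814: `AutCT 5 Fi22`

`|Fi22|` is not divisible by `5 ^ 3` and `|Out(Fi22)| ≤ 2`.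
-/

set_option autoImplicit false

namespace Cfsg.Agent.CpAutFiFive.Fi22

open Subgroup Cfsg Cfsg.Agent.CpAut Cfsg.Agent.CpAutFiFive.SqRank

theorem card_eq : Nat.card Spor.Fi22 = 64561751654400 := Cfsg.Agent.Fischer.Fi22Order.card_fi22

instance finite : Finite Spor.Fi22 := Nat.finite_of_card_ne_zero (by rw [card_eq]; norm_num)

theorem simple : IsSimpleGroup Spor.Fi22 := Cfsg.Agent.Fischer.Fi22Order.isSimple

theorem not_comm : ¬ IsMulCommutative Spor.Fi22 := by
  intro h
  have hs := simple
  let _ : CommGroup Spor.Fi22 := { (inferInstance : Group Spor.Fi22) with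
    mul_comm := fun a b => h.is_comm.comm a b }
  have h1 : (Nat.card Spor.Fi22).Prime := IsSimpleGroup.prime_card
  rw [card_eq] at h1
  exact absurd h1 (by norm_num)

/-- automorphisms of odd prime order are inner -/
theorem inner {p : ℕ} (hp : p.Prime) (hp2 : p ≠ 2) : AutInner p Spor.Fi22 := by
  refine autInner_of_sq hp hp2 fun x => ?_
  by_cases h : ∃ g : Spor.Fi22, x = MulAut.conj g
  · obtain ⟨g, rfl⟩ := h
    exact ⟨g * g, by rw [map_mul]⟩
  · push Not at h
    exact Cfsg.Agent.OddHalf.Table.OutFi22.mul_outer x x h h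

/-- **`AutCT 5 Fi22`** -/
theorem autCT (hS : AllKnown.{0}) : AutCT 5 Spor.Fi22 := by
  have hs := simple
  refine autCT_of_cube hS (by norm_num) (by norm_num) (center_eq_bot_of_simple not_comm)
    (inner (by norm_num) (by norm_num)) ?_
  rw [card_eq]
  norm_num

end Cfsg.Agent.CpAutFiFive.Fi22
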